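import Groth.Agent.Lib.GrpQuot.Glue

/-!
# Descent to opens of a glued quotient, and consequences
-/

set_option autoImplicit false
set_option linter.style.haveILetI false
set_option backward.isDefEq.respectTransparency.types false
universe u

open CategoryTheory CategoryTheory.Limits AlgebraicGeometry

noncomputable section

namespace Groth.Agent.GrpdQSec19

open Groth.Agent.GrpQuot Groth.Agent.GrpdB

variable {S : Scheme.{u}} {G : Grpd.GroupoidScheme S} (hcov : ∀ x : G.U, ∃ c : Chart G, x ∈ c.W)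

theorem inv_toGlued {T : Scheme.{u}} (r : T ⟶ G.R) :
    (r ≫ G.t) ≫ toGlued hcov = (r ≫ G.s) ≫ toGlued hcov := by
  rw [Category.assoc, Category.assoc, t_toGlued]

/-- The glued quotient has the descent property over each open. -/
theorem isQuot_toGlued : IsQuot G (𝟙 G.U) (toGlued hcov) := by
  refine ⟨fun r x y hx hy => ?_, (surjective_toGlued hcov).surj, isOpenMap_toGlued hcov, ?_, ?_, ?_⟩
  · rw [Category.comp_id] at hx hy
    rw [hx, hy, inv_toGlued]
  · intro K _ _ x y e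
    let pt₀ : Spec (CommRingCat.of K) := IsLocalRing.closedPoint K
    obtain ⟨c, hc⟩ := hcov (x pt₀)
    have hxy : ∀ w, x w ∈ c.W ∧ y w ∈ c.W := by
      intro w
      rw [Subsingleton.elim w pt₀]
      refine ⟨hc, ?_⟩
      have h := congr($(e) pt₀)
      rw [Scheme.Hom.comp_apply, Scheme.Hom.comp_apply] at h
      obtain ⟨r, h1, h2⟩ := (toGlued_eq_iff hcov _ _).1 h
      exact (mem_iff_of_arrow c.inv h1 h2).1 hc
    let a := IsOpenImmersion.lift c.W.ι x (by rintro _ ⟨w, rfl⟩; rw [Scheme.Opens.range_ι]; exact (hxy w).1)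
    let b := IsOpenImmersion.lift c.W.ι y (by rintro _ ⟨w, rfl⟩; rw [Scheme.Opens.range_ι]; exact (hxy w).2)
    obtain ⟨r, hr₁, hr₂⟩ := c.isQuot.pts a b (by
      rw [← cancel_mono c.ι, Category.assoc, Category.assoc, ← ι_toGlued hcov, IsOpenImmersion.lift_fac_assoc,
        IsOpenImmersion.lift_fac_assoc, e])
    rw [IsOpenImmersion.lift_fac] at hr₁ hr₂
    exact ⟨r, by rw [hr₁, Category.comp_id], by rw [hr₂, Category.comp_id]⟩
  · intro x y h
    exact (toGlued_eq_iff hcov x y).1 h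
  intro W O' Z g₀ hg₀ k q sq ψ hψ
  haveI hk : IsOpenImmersion k := MorphismProperty.of_isPullback sq ‹IsOpenImmersion g₀›
  rw [Category.comp_id] at hψ
  let Om : G.U.Opens := k.opensRange
  have hOm : ∀ x, x ∈ Om ↔ toGlued hcov x ∈ Set.range g₀ := by
    intro x
    constructor
    · rintro ⟨o, rfl⟩
      exact ⟨q o, by rw [← Scheme.Hom.comp_apply, sq.w, Scheme.Hom.comp_apply]⟩
    · rintro ⟨w, hw⟩
      obtain ⟨p, -, hp⟩ := Scheme.Pullback.exists_preimage_pullback (f := g₀) (g := toGlued hcov) w x hw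
      exact ⟨sq.isoPullback.inv p, by rw [← Scheme.Hom.comp_apply, sq.isoPullback_inv_snd]; exact hp⟩
  have hOinv : G.s ⁻¹ᵁ Om = G.t ⁻¹ᵁ Om := by
    ext r
    show G.s r ∈ Om ↔ G.t r ∈ Om
    rw [hOm, hOm, (toGlued_eq_iff hcov (G.t r) (G.s r)).2 ⟨r, rfl, rfl⟩]
  -- the charts inside `Om`
  let J := {d : Chart G // d.W ≤ Om}
  have hrange : ∀ d : J, Set.range d.1.ι ⊆ Set.range g₀ := by
    rintro ⟨d, hd⟩ _ ⟨m, rfl⟩
    obtain ⟨a, rfl⟩ := d.isQuot.surj m
    rw [← toGlued_apply hcov d a]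
    exact (hOm _).1 (hd a.2)
  let ιW : ∀ d : J, d.1.M ⟶ W := fun d => IsOpenImmersion.lift g₀ d.1.ι (hrange d)
  have hιW : ∀ d, ιW d ≫ g₀ = d.1.ι := fun d => IsOpenImmersion.lift_fac _ _ _
  haveI : ∀ d, IsOpenImmersion (ιW d) := fun d => by
    haveI : IsOpenImmersion (ιW d ≫ g₀) := by rw [hιW]; infer_instance
    exact IsOpenImmersion.of_comp _ g₀
  have hcovW : ∀ w : W, ∃ d : J, w ∈ Set.range (ιW d) := by
    intro w
    obtain ⟨x, hx⟩ := (surjective_toGlued hcov).surj (g₀ w)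
    obtain ⟨c, hc⟩ := hcov x
    let d : Chart G := c.sub (c.W ⊓ Om) (by rw [Scheme.Hom.preimage_inf, Scheme.Hom.preimage_inf, c.inv, hOinv])
      inf_le_left
    refine ⟨⟨d, inf_le_right⟩, d.p ⟨x, hc, (hOm x).2 ⟨w, hx.symm⟩⟩, g₀.isOpenEmbedding.injective ?_⟩
    rw [← Scheme.Hom.comp_apply, hιW, ← toGlued_apply hcov d]
    exact hx
  let 𝒲 : W.OpenCover := Scheme.Cover.mkOfCovers J (fun d => d.1.M) ιW (fun w => by
    obtain ⟨d, m, hm⟩ := hcovW w
    exact ⟨d, m, hm⟩) (fun d => inferInstance)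
  let a : ∀ d : J, d.1.W.toScheme ⟶ O' := fun d => IsOpenImmersion.lift k d.1.W.ι (by
    rw [Scheme.Opens.range_ι]; exact d.2)
  have ha : ∀ d, a d ≫ k = d.1.W.ι := fun d => IsOpenImmersion.lift_fac _ _ _
  have haq : ∀ d, a d ≫ q = d.1.p ≫ ιW d := fun d => by
    rw [← cancel_mono g₀, Category.assoc, Category.assoc, hιW, sq.w, ← Category.assoc, ha, ι_toGlued]
  have hψd : ∀ d : J, Inv G d.1.W.ι (a d ≫ ψ) := fun d T r x y hx hy => by
    rw [← Category.assoc, ← Category.assoc]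
    exact hψ r _ _ (by rw [Category.assoc, ha, hx]) (by rw [Category.assoc, ha, hy])
  choose gd hgd hgd' using fun d : J => d.1.isQuot.descTop _ (hψd d)
  let inf' : J → J → J := fun d e => ⟨d.1.inf e.1, inf_le_left.trans d.2⟩
  have hres : ∀ (d e : J) (h : d.1.W ≤ e.1.W), Chart.map h ≫ gd e = gd d := fun d e h => by
    refine hgd' d _ ?_
    show d.1.p ≫ Chart.map h ≫ gd e = a d ≫ ψ
    rw [← Category.assoc, Chart.p_map, Category.assoc, hgd e, ← Category.assoc]
    congr 1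
    rw [← cancel_mono k, Category.assoc, ha, ha, Scheme.homOfLE_ι]
  have hinf : ∀ d e : J, IsPullback (Chart.map (c := (inf' d e).1) (d := d.1) inf_le_left)
      (Chart.map (c := (inf' d e).1) (d := e.1) inf_le_right) (ιW d) (ιW e) := by
    intro d e
    haveI := Chart.isOpenImmersion_map (c := (inf' d e).1) (d := d.1) inf_le_left
    haveI := Chart.isOpenImmersion_map (c := (inf' d e).1) (d := e.1) inf_le_right
    refine IsPullback.flip (IsOpenImmersion.isPullback _ _ _ _ ?_ ?_)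
    · rw [← cancel_mono g₀, Category.assoc, Category.assoc, hιW, hιW, Chart.map_ι, Chart.map_ι]
    · ext m
      refine Iff.symm ⟨?_, ?_⟩
      · rintro ⟨z, rfl⟩
        refine ⟨Chart.map (c := (inf' d e).1) (d := e.1) inf_le_right z, g₀.isOpenEmbedding.injective ?_⟩
        simp only [← Scheme.Hom.comp_apply, Category.assoc, hιW, Chart.map_ι]
      · rintro ⟨m', hm'⟩
        obtain ⟨x, rfl⟩ := d.1.isQuot.surj m
        obtain ⟨y, rfl⟩ := e.1.isQuot.surj m'
        have h1 := congrArg g₀ hm'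
        have h2 : ∀ (d : J) (w : d.1.M), g₀ (ιW d w) = d.1.ι w := fun d w => by rw [← Scheme.Hom.comp_apply, hιW]
        rw [h2, h2] at h1
        obtain ⟨r, hr1, hr2⟩ := exists_arrow_of_ι_eq h1
        have hxe : x.1 ∈ e.1.W := (mem_iff_of_arrow e.1.inv hr1 hr2).1 y.2
        refine ⟨(inf' d e).1.p ⟨x.1, x.2, hxe⟩, ?_⟩
        rw [← Scheme.Hom.comp_apply, Chart.p_map, Scheme.Hom.comp_apply]
        congr 1
        refine d.1.W.ι.isOpenEmbedding.injective ?_
        rw [← Scheme.Hom.comp_apply, Scheme.homOfLE_ι]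
        rfl
  have compat : ∀ d e : J, pullback.fst (ιW d) (ιW e) ≫ gd d = pullback.snd (ιW d) (ιW e) ≫ gd e := by
    intro d e
    rw [← cancel_epi (hinf d e).isoPullback.hom, IsPullback.isoPullback_hom_fst_assoc,
      IsPullback.isoPullback_hom_snd_assoc, hres (inf' d e) d inf_le_left, hres (inf' d e) e inf_le_right]
  let g : W ⟶ Z := 𝒲.glueMorphisms gd compat
  have hg : ∀ d, ιW d ≫ g = gd d := fun d => 𝒲.ι_glueMorphisms _ _ d
  have hcovO : ∀ o : O', ∃ d : J, o ∈ Set.range (a d) := by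
    intro o
    obtain ⟨c, hc⟩ := hcov (k o)
    let d : Chart G := c.sub (c.W ⊓ Om) (by rw [Scheme.Hom.preimage_inf, Scheme.Hom.preimage_inf, c.inv, hOinv])
      inf_le_left
    refine ⟨⟨d, inf_le_right⟩, ⟨k o, hc, ⟨o, rfl⟩⟩, k.isOpenEmbedding.injective ?_⟩
    rw [← Scheme.Hom.comp_apply, ha]
    rfl
  let 𝒪 : O'.OpenCover := Scheme.Cover.mkOfCovers J (fun d => d.1.W.toScheme) a (fun o => by
    obtain ⟨d, m, hm⟩ := hcovO o
    exact ⟨d, m, hm⟩) (fun d => by
      haveI : IsOpenImmersion (a d ≫ k) := by rw [ha]; infer_instance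
      exact IsOpenImmersion.of_comp _ k)
  refine ⟨g, ?_, fun g' hg₂ => ?_⟩
  · refine Scheme.Cover.hom_ext 𝒪 _ _ fun d => ?_
    show a d ≫ q ≫ g = a d ≫ ψ
    rw [← Category.assoc, haq, Category.assoc, hg, hgd d]
  · refine Scheme.Cover.hom_ext 𝒲 _ _ fun d => ?_
    show ιW d ≫ g' = ιW d ≫ g
    rw [hg]
    refine hgd' d _ ?_
    show d.1.p ≫ ιW d ≫ g' = a d ≫ ψ
    rw [← Category.assoc, ← haq, Category.assoc, show q ≫ g' = ψ from hg₂]

theorem ext_affineLine {V : Scheme.{u}} {f g : V ⟶ Spec (CommRingCat.of (Polynomial (ULift.{u} ℤ)))}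
    (h : f.appTop ((Scheme.ΓSpecIso _).inv Polynomial.X) = g.appTop ((Scheme.ΓSpecIso _).inv Polynomial.X)) :
    f = g := by
  refine ext_of_isAffine ?_
  rw [← cancel_epi (Scheme.ΓSpecIso _).inv]
  refine CommRingCat.hom_ext (Polynomial.ringHom_ext (fun c => ?_) h)
  have : ∀ φ ψ : ULift.{u} ℤ →+* Γ(V, ⊤), φ = ψ := fun φ ψ => RingHom.ext fun x => by
    have := congr($(RingHom.ext_int (φ.comp (ULift.ringEquiv.{0, u} (R := ℤ)).symm.toRingHom)
      (ψ.comp (ULift.ringEquiv.{0, u} (R := ℤ)).symm.toRingHom)) x.down)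
    exact this
  exact congr($(this (((Scheme.ΓSpecIso _).inv ≫ f.appTop).hom.comp Polynomial.C)
    (((Scheme.ΓSpecIso _).inv ≫ g.appTop).hom.comp Polynomial.C)) c)

/-- A morphism to the affine line with given value. -/
def evAt {V : Scheme.{u}} (c : Γ(V, ⊤)) : V ⟶ Spec (CommRingCat.of (Polynomial (ULift.{u} ℤ))) :=
  V.toSpecΓ ≫ Spec.map (CommRingCat.ofHom (Polynomial.eval₂RingHom
    ((Int.castRingHom Γ(V, ⊤)).comp (ULift.ringEquiv.{0, u} (R := ℤ)).toRingHom) c))

theorem evAt_appTop {V : Scheme.{u}} (c : Γ(V, ⊤)) :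
    (evAt c).appTop ((Scheme.ΓSpecIso _).inv Polynomial.X) = c := by
  rw [evAt, Scheme.Hom.comp_appTop, Scheme.toSpecΓ_appTop, ← CommRingCat.comp_apply, ← Category.assoc,
    ← Scheme.ΓSpecIso_inv_naturality, Category.assoc, Iso.inv_hom_id, Category.comp_id]
  exact Polynomial.eval₂_X _ _

/-- Functions on an open of a quotient are determined by their pull back. -/
theorem app_injective_of_isQuot {O Y : Scheme.{u}} {j : O ⟶ G.U} {p : O ⟶ Y} (h : IsQuot G j p) (V : Y.Opens) :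
    Function.Injective (p.app V) := by
  have hq := h.restrict V.ι (p ⁻¹ᵁ V).ι (p ∣_ V) (isPullback_morphismRestrict p V)
  have key : ∀ c d : Γ(V.toScheme, ⊤), (p ∣_ V).appTop c = (p ∣_ V).appTop d → c = d := by
    intro c d he
    have h1 : (p ∣_ V) ≫ evAt c = (p ∣_ V) ≫ evAt d := ext_affineLine (by
      rw [Scheme.Hom.comp_appTop, Scheme.Hom.comp_appTop, CommRingCat.comp_apply, CommRingCat.comp_apply,
        evAt_appTop, evAt_appTop, he])
    rw [← evAt_appTop c, hq.hom_ext h1, evAt_appTop]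
  intro a b hab
  apply V.topIso.symm.commRingCatIsoToRingEquiv.injective
  refine key _ _ ?_
  have e : ∀ a, (p ∣_ V).appTop (V.topIso.inv a) = (p ⁻¹ᵁ V).topIso.inv (p.app V a) := fun a => by
    rw [← CommRingCat.comp_apply, ← CommRingCat.comp_apply]
    congr 2
    rw [Scheme.Hom.appTop, morphismRestrict_app']
    simp only [Scheme.Opens.topIso_inv, Scheme.Hom.app_eq_appLE, eqToHom_op, Scheme.Hom.appLE_map]
    exact (Scheme.Hom.map_appLE _ _ _).trans (Scheme.Hom.appLE_map p _ _).symm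
  exact (e a).trans ((congrArg _ hab).trans (e b).symm)

end Groth.Agent.GrpdQSec19
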