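import Groth.Agent.Lib.GrpdQSec19.Along
import Groth.Agent.Lib.GrpdQSec19.DescOpen
import Mathlib.AlgebraicGeometry.AlgClosed.Basic
import Mathlib.RingTheory.Adjoin.Tower
import Groth.Agent.Lib.GrpQuot.EquivRel
import Groth.Agent.Lib.Descend.PointLocal
import Mathlib.AlgebraicGeometry.Sites.Fpqc

/-!
# Coequalizers of groupoids with a quasi-section
-/

set_option autoImplicit false
set_option linter.style.haveILetI false
set_option backward.isDefEq.respectTransparency.types false
universe u

open CategoryTheory CategoryTheory.Limits AlgebraicGeometry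

noncomputable section

namespace Groth.Agent.GrpdQSec19

open Groth.Agent.GrpdB

theorem desc_exists {X Y Z : Scheme.{u}} (q : X ⟶ Y) [Flat q] [Surjective q] [QuasiCompact q] (k : X ⟶ Z)
    (h : ∀ {T : Scheme.{u}} (a b : T ⟶ X), a ≫ q = b ≫ q → a ≫ k = b ≫ k) : ∃ p : Y ⟶ Z, q ≫ p = k :=
  ⟨EffectiveEpi.desc q k fun a b hab => h a b hab, EffectiveEpi.fac q k fun a b hab => h a b hab⟩

theorem isOpenMap_snd_of_isImmersion {X Y Z : Scheme.{u}} (f : X ⟶ Z) (g : Y ⟶ Z) [IsImmersion g]
    (hf : IsOpenMap f.base) : IsOpenMap (pullback.snd f g).base := by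
  intro O hO
  obtain ⟨O₁, hO₁, rfl⟩ := (pullback.fst f g).isEmbedding.isInducing.isOpen_iff.1 hO
  have e : (pullback.snd f g).base '' ((pullback.fst f g).base ⁻¹' O₁) = g.base ⁻¹' (f.base '' O₁) := by
    ext y
    constructor
    · rintro ⟨z, hz, rfl⟩
      refine ⟨pullback.fst f g z, hz, ?_⟩
      rw [← Scheme.Hom.comp_apply, pullback.condition, Scheme.Hom.comp_apply]
    · rintro ⟨x, hx, hxy⟩
      obtain ⟨z, h1, h2⟩ := Scheme.Pullback.exists_preimage_pullback (f := f) (g := g) x y hxy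
      exact ⟨z, show (pullback.fst f g) z ∈ O₁ by rw [h1]; exact hx, h2⟩
  rw [e]
  exact (hf O₁ hO₁).preimage g.continuous

theorem surjective_map_self {X Y Z : Scheme.{u}} (f : X ⟶ Y) (g : Y ⟶ Z) [Surjective f] :
    Surjective (pullback.map (f ≫ g) (f ≫ g) g g f f (𝟙 Z) (Category.comp_id _) (Category.comp_id _)) :=
  MorphismProperty.pullbackMap (P := @Surjective) ‹_› ‹_› rfl rfl

theorem reass {C : Type*} [Category C] {A B D E : C} {f : A ⟶ B} {g : B ⟶ D} {h : A ⟶ D} (e : f ≫ g = h)
    (k : D ⟶ E) : f ≫ g ≫ k = h ≫ k := by rw [← Category.assoc, e]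

/-- Artin–Tate for schemes. -/
theorem lft_of_integral {X Y S : Scheme.{u}} (p : X ⟶ Y) (g : Y ⟶ S) [IsIntegralHom p] [IsLocallyNoetherian S]
    [LocallyOfFiniteType (p ≫ g)] (inj : ∀ V : Y.Opens, Function.Injective (p.app V)) : LocallyOfFiniteType g := by
  refine ⟨fun {T} hT {V} hV e => ?_⟩
  have hW : IsAffineOpen (p ⁻¹ᵁ V) := hV.preimage p
  have hle : p ⁻¹ᵁ V ≤ (p ≫ g) ⁻¹ᵁ T := by rw [Scheme.Hom.comp_preimage]; exact Scheme.Hom.preimage_mono p e
  have h1 : ((p ≫ g).appLE T (p ⁻¹ᵁ V) hle).hom.FiniteType := (p ≫ g).finiteType_appLE hT hW hle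
  have hcomp : (p ≫ g).appLE T (p ⁻¹ᵁ V) hle = g.appLE T V e ≫ p.app V := by
    rw [Scheme.Hom.app_eq_appLE, Scheme.Hom.appLE_comp_appLE]
  rw [hcomp, CommRingCat.hom_comp] at h1
  haveI : IsNoetherianRing Γ(S, T) := IsLocallyNoetherian.component_noetherian ⟨T, hT⟩
  have hint : (p.app V).hom.IsIntegral := IsIntegralHom.isIntegral_app (f := p) V hV
  algebraize [(g.appLE T V e).hom, (p.app V).hom, (p.app V).hom.comp (g.appLE T V e).hom]
  have h2 : Algebra.FiniteType Γ(S, T) Γ(X, p ⁻¹ᵁ V) := h1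
  haveI : Algebra.FiniteType Γ(Y, V) Γ(X, p ⁻¹ᵁ V) := Algebra.FiniteType.of_restrictScalars_finiteType Γ(S, T) _ _
  haveI : Module.Finite Γ(Y, V) Γ(X, p ⁻¹ᵁ V) := Algebra.IsIntegral.finite
  exact ⟨fg_of_fg_of_fg (A := Γ(S, T)) (B := Γ(Y, V)) (C := Γ(X, p ⁻¹ᵁ V)) h2.1 Module.Finite.fg_top (inj V)⟩

variable {S : Scheme.{u}} (G : Grpd.GroupoidScheme S) {U' : Scheme.{u}} (u : U' ⟶ G.U)

/-- Pairs of arrows with the same source give an arrow of `U'`. -/
theorem exists_link {T : Scheme.{u}} (a b : T ⟶ V G u) (h : a ≫ q G u = b ≫ q G u) :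
    ∃ ρ : T ⟶ R' G u, ρ ≫ t' G u = a ≫ pullback.snd G.t u ∧ ρ ≫ s' G u = b ≫ pullback.snd G.t u := by
  have hc : (a ≫ pullback.fst G.t u) ≫ G.s = inv' (b ≫ pullback.fst G.t u) ≫ G.t := by
    rw [inv_t, Category.assoc, Category.assoc]; exact h
  refine ⟨mk' (cmp G (a ≫ pullback.fst G.t u) (inv' (b ≫ pullback.fst G.t u)) hc)
    (a ≫ pullback.snd G.t u) (b ≫ pullback.snd G.t u) ?_ ?_, mk'_t _ _ _ _ _, mk'_s _ _ _ _ _⟩
  · rw [cmp_t, Category.assoc, pullback.condition, Category.assoc]
  · rw [cmp_s, inv_s, Category.assoc, pullback.condition, Category.assoc]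

variable [IsImmersion u] [IsFinite (q G u)] [Flat (q G u)] [LocallyOfFinitePresentation (q G u)]
  [Surjective (q G u)]
  (h2 : ∀ E : Set U', (∀ x ∈ E, ∀ y ∈ E, ∃ r : G.R, G.t.base r = u.base x ∧ G.s.base r = u.base y) →
      ∃ W : U'.Opens, IsAffineOpen W ∧ E ⊆ (W : Set U'))

instance : IsFinite (along G u).s := inferInstanceAs (IsFinite (pullback.snd (q G u) u))
instance : Flat (along G u).s := inferInstanceAs (Flat (pullback.snd (q G u) u))
instance : LocallyOfFinitePresentation (along G u).s :=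
  inferInstanceAs (LocallyOfFinitePresentation (pullback.snd (q G u) u))

omit [IsImmersion u] [IsFinite (q G u)] [Flat (q G u)] [LocallyOfFinitePresentation (q G u)]
  [Surjective (q G u)] in
theorem apply_t (z : R' G u) : G.t (toR G u z) = u (t' G u z) := by
  have h := toR_t (G := G) (u := u) (𝟙 _)
  rw [Category.id_comp, Category.id_comp] at h
  exact congr($(h) z)

omit [IsImmersion u] [IsFinite (q G u)] [Flat (q G u)] [LocallyOfFinitePresentation (q G u)]
  [Surjective (q G u)] in
theorem apply_s (z : R' G u) : G.s (toR G u z) = u (s' G u z) := by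
  have h := toR_s (G := G) (u := u) (𝟙 _)
  rw [Category.id_comp, Category.id_comp] at h
  exact congr($(h) z)

omit [IsImmersion u] [IsFinite (q G u)] [Flat (q G u)] [LocallyOfFinitePresentation (q G u)]
  [Surjective (q G u)] in
include h2 in
theorem hb : ∀ x : (along G u).U, ∃ W : (along G u).U.Opens, IsAffineOpen W ∧
    (along G u).t.base '' ((along G u).s.base ⁻¹' {x}) ⊆ (W : Set (along G u).U) := by
  intro x
  refine h2 _ ?_
  rintro _ ⟨r₁, hr₁, rfl⟩ _ ⟨r₂, hr₂, rfl⟩
  have e : G.s (toR G u r₁) = G.t (G.i (toR G u r₂)) := by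
    rw [t_i, apply_s, apply_s]
    exact congrArg u ((hr₁ : s' G u r₁ = x).trans (hr₂ : s' G u r₂ = x).symm)
  obtain ⟨w, hwt, hws⟩ := exists_comp_point (toR G u r₁) (G.i (toR G u r₂)) e
  exact ⟨w, hwt.trans (apply_t G u r₁), hws.trans ((s_i _).trans (apply_t G u r₂))⟩

include h2 in
theorem main' :
    ∃ (Y : Scheme.{u}) (p : G.U ⟶ Y) (w : G.t ≫ p = G.s ≫ p),
      Nonempty (IsColimit (Cofork.ofπ p w)) ∧ Surjective p ∧
      (IsOpenMap G.t.base → IsOpenMap p.base) ∧ (UniversallyClosed G.t → UniversallyClosed p) ∧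
      Function.Surjective (pullback.lift G.t G.s w).base ∧
      (Mono G.j → IsPullback G.t G.s p p ∧ (Flat G.t → Flat p)) ∧
      (LocallyOfFiniteType G.s → IsOpenMap G.t.base → GrpQuot.IsQuot G (𝟙 G.U) p) ∧
      (∀ g : Y ⟶ S, p ≫ g = G.pU → IsLocallyNoetherian S → LocallyOfFiniteType G.pU →
        LocallyOfFiniteType g) := by
  have hcov : ∀ x : (along G u).U, ∃ c : GrpQuot.Chart (along G u), x ∈ c.W := fun x =>
    let ⟨c, hc, _⟩ := GrpQuot.exists_affine_chart (hb G u h2) x
    ⟨c, hc⟩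
  let Y : Scheme.{u} := GrpQuot.Quot (along G u)
  let p' : U' ⟶ Y := GrpQuot.toGlued hcov
  have hp'i : IsIntegralHom p' := GrpQuot.isIntegralHom_toGlued hcov (hb G u h2)
  have hp's : Surjective p' := GrpQuot.surjective_toGlued hcov
  have hp'w : t' G u ≫ p' = s' G u ≫ p' := GrpQuot.t_toGlued hcov
  have hlink : ∀ {T : Scheme.{u}} (a b : T ⟶ V G u), a ≫ q G u = b ≫ q G u →
      a ≫ pullback.snd G.t u ≫ p' = b ≫ pullback.snd G.t u ≫ p' := by
    intro T a b h
    obtain ⟨ρ, h1, h2⟩ := exists_link G u a b h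
    calc a ≫ pullback.snd G.t u ≫ p' = ρ ≫ t' G u ≫ p' := by rw [← Category.assoc, ← h1, Category.assoc]
      _ = ρ ≫ s' G u ≫ p' := congrArg (ρ ≫ ·) hp'w
      _ = b ≫ pullback.snd G.t u ≫ p' := by rw [← Category.assoc, h2, Category.assoc]
  obtain ⟨p, hp⟩ := desc_exists (q G u) (pullback.snd G.t u ≫ p') hlink
  haveI : Epi (q G u) := Flat.epi_of_flat_of_surjective _
  have hup : u ≫ p = p' := by
    let σ : U' ⟶ V G u := pullback.lift (u ≫ G.e) (𝟙 U')
      (by rw [Category.assoc, G.e_t, Category.comp_id, Category.id_comp])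
    have h1 : σ ≫ q G u = u := by
      rw [pullback.lift_fst_assoc, Category.assoc, G.e_s, Category.comp_id]
    calc u ≫ p = σ ≫ q G u ≫ p := (reass h1 p).symm
      _ = σ ≫ pullback.snd G.t u ≫ p' := congrArg (σ ≫ ·) hp
      _ = p' := by rw [pullback.lift_snd_assoc, Category.id_comp]
  have w : G.t ≫ p = G.s ≫ p := by
    haveI : Epi (pullback.fst G.s (q G u)) := Flat.epi_of_flat_of_surjective _
    rw [← cancel_epi (pullback.fst G.s (q G u))]
    set r := pullback.fst G.s (q G u)
    set v := pullback.snd G.s (q G u) ≫ pullback.fst G.t u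
    have hr : v ≫ G.s = r ≫ G.s := by simp only [v, r, Category.assoc, pullback.condition]
    have hc : v ≫ G.s = inv' r ≫ G.t := by rw [inv_t]; exact hr
    let v' : pullback G.s (q G u) ⟶ V G u := pullback.lift (cmp G v (inv' r) hc)
      (pullback.snd G.s (q G u) ≫ pullback.snd G.t u)
      (by simp only [cmp_t, v, Category.assoc, pullback.condition])
    have hv' : v' ≫ q G u = r ≫ G.t := by
      rw [pullback.lift_fst_assoc, cmp_s, inv_s]
    calc r ≫ G.t ≫ p = v' ≫ q G u ≫ p := by rw [← Category.assoc]; exact (reass hv' p).symm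
      _ = v' ≫ pullback.snd G.t u ≫ p' := congrArg (v' ≫ ·) hp
      _ = pullback.snd G.s (q G u) ≫ pullback.snd G.t u ≫ p' := by
        rw [pullback.lift_snd_assoc, Category.assoc]
      _ = pullback.snd G.s (q G u) ≫ q G u ≫ p := congrArg (_ ≫ ·) hp.symm
      _ = r ≫ G.s ≫ p := by rw [← Category.assoc, ← pullback.condition, Category.assoc]
  haveI hps : Surjective p := by
    haveI : Surjective (u ≫ p) := by rw [hup]; exact hp's
    exact Surjective.of_comp u p
  have hopen : IsOpenMap G.t.base → IsOpenMap p.base := fun ho => by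
    have h1 : IsOpenMap (pullback.snd G.t u).base := by
      exact isOpenMap_snd_of_isImmersion G.t u ho
    intro O hO
    have h2' : IsOpenMap (q G u ≫ p).base := by
      rw [hp]
      intro O' hO'
      rw [Scheme.Hom.comp_base, TopCat.coe_comp, Set.image_comp]
      exact GrpQuot.isOpenMap_toGlued hcov _ (h1 _ hO')
    have e : p.base '' O = (q G u ≫ p).base '' ((q G u).base ⁻¹' O) := by
      rw [Scheme.Hom.comp_base, TopCat.coe_comp, Set.image_comp,
        Set.image_preimage_eq _ (q G u).surjective]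
    rw [e]
    exact h2' _ (hO.preimage (q G u).continuous)
  have hlift : Function.Surjective (pullback.lift G.t G.s w).base := by
    intro z
    haveI := surjective_map_self (q G u) p
    obtain ⟨z₁, hz₁⟩ := (pullback.map (q G u ≫ p) (q G u ≫ p) p p (q G u) (q G u) (𝟙 Y)
      (Category.comp_id _) (Category.comp_id _)).surjective z
    let L := pullback.map (q G u ≫ p) (q G u ≫ p) p' p' (pullback.snd G.t u) (pullback.snd G.t u) (𝟙 Y)
      (by rw [Category.comp_id, hp]) (by rw [Category.comp_id, hp])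
    obtain ⟨ρ, hρ⟩ := GrpQuot.surjective_lift_glued hcov (L z₁)
    let l : R' G u ⟶ pullback p' p' := pullback.lift (t' G u) (s' G u) hp'w
    have hρ' : l ρ = L z₁ := hρ
    obtain ⟨P, hP1, hP2⟩ := Scheme.Pullback.exists_preimage_pullback (f := L) (g := l) z₁ ρ hρ'.symm
    set pr₁ := pullback.fst L l
    set pr₂ := pullback.snd L l
    let v₁ : pullback L l ⟶ G.R := pr₁ ≫ pullback.fst _ _ ≫ pullback.fst G.t u
    let v₂ : pullback L l ⟶ G.R := pr₁ ≫ pullback.snd _ _ ≫ pullback.fst G.t u
    let m : pullback L l ⟶ G.R := pr₂ ≫ toR G u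
    have e : pr₁ ≫ L = pr₂ ≫ l := pullback.condition
    have e₁ : pr₁ ≫ pullback.fst _ _ ≫ pullback.snd G.t u = pr₂ ≫ t' G u := by
      have := congrArg (· ≫ pullback.fst p' p') e
      simpa only [L, l, pullback.map, Category.assoc, pullback.lift_fst] using this
    have e₂ : pr₁ ≫ pullback.snd _ _ ≫ pullback.snd G.t u = pr₂ ≫ s' G u := by
      have := congrArg (· ≫ pullback.snd p' p') e
      simpa only [L, l, pullback.map, Category.assoc, pullback.lift_snd] using this
    have c₁ : inv' v₁ ≫ G.s = m ≫ G.t := by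
      rw [inv_s]
      show _ = (pr₂ ≫ toR G u) ≫ G.t
      rw [toR_t, ← e₁]
      simp only [v₁, Category.assoc, pullback.condition]
    have c₂ : m ≫ G.s = v₂ ≫ G.t := by
      show (pr₂ ≫ toR G u) ≫ G.s = _
      rw [toR_s, ← e₂]
      simp only [v₂, Category.assoc, pullback.condition]
    let ω : pullback L l ⟶ G.R := cmp G (cmp G (inv' v₁) m c₁) v₂ ((cmp_s _ _ _).trans c₂)
    have hω : ω ≫ pullback.lift G.t G.s w = pr₁ ≫ pullback.map (q G u ≫ p) (q G u ≫ p) p p (q G u) (q G u) (𝟙 Y)
        (Category.comp_id _) (Category.comp_id _) := by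
      refine pullback.hom_ext ?_ ?_
      · simp only [Category.assoc, pullback.lift_fst, pullback.map, ω, cmp_t, G.i_t, v₁]
      · simp only [Category.assoc, pullback.lift_snd, pullback.map, ω, cmp_s, v₂]
    refine ⟨ω P, ?_⟩
    show (pullback.lift G.t G.s w) (ω P) = z
    rw [← Scheme.Hom.comp_apply, hω, Scheme.Hom.comp_apply, hP1, hz₁]
  refine ⟨Y, p, w, ⟨Cofork.IsColimit.ofExistsUnique fun c => ?_⟩, hps, hopen, fun hcl => ?_, hlift, fun hm => ?_,
    fun hlft ho => ?_, fun g hg hS hU => ?_⟩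
  · have hc : c.π = c.ι.app WalkingParallelPair.one := rfl
    have hinv : t' G u ≫ u ≫ c.π = s' G u ≫ u ≫ c.π := by
      have ht := toR_t (G := G) (u := u) (𝟙 _)
      have hs := toR_s (G := G) (u := u) (𝟙 _)
      rw [Category.id_comp, Category.id_comp] at ht hs
      calc t' G u ≫ u ≫ c.π = toR G u ≫ G.t ≫ c.π := by rw [← Category.assoc, ← ht, Category.assoc]
        _ = toR G u ≫ G.s ≫ c.π := congrArg (toR G u ≫ ·) c.condition
        _ = s' G u ≫ u ≫ c.π := by rw [← Category.assoc, hs, Category.assoc]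
    obtain ⟨χ, hχ, huniq⟩ := GrpQuot.exists_desc_glued hcov (u ≫ c.π) hinv
    refine ⟨χ, ?_, fun χ' hχ' => huniq χ' ?_⟩
    · show p ≫ χ = c.π
      rw [← cancel_epi (q G u)]
      calc q G u ≫ p ≫ χ = (pullback.snd G.t u ≫ p') ≫ χ := reass hp χ
        _ = pullback.snd G.t u ≫ u ≫ c.π := (Category.assoc _ _ _).trans (congrArg (_ ≫ ·) hχ)
        _ = pullback.fst G.t u ≫ G.t ≫ c.π := by rw [← pullback.condition_assoc]
        _ = q G u ≫ c.π := (congrArg (pullback.fst G.t u ≫ ·) c.condition).trans (Category.assoc _ _ _).symm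
    · show p' ≫ χ' = u ≫ c.π
      rw [← hup, Category.assoc, show p ≫ χ' = c.π from hχ']
  · haveI : UniversallyClosed (q G u ≫ p) := by
      rw [hp]
      haveI : UniversallyClosed (pullback.snd G.t u) := MorphismProperty.pullback_snd _ _ hcl
      infer_instance
    exact UniversallyClosed.of_comp_surjective (q G u) p
  · haveI := hm
    haveI := mono_j_along G u
    have hpb : IsPullback (t' G u) (s' G u) p' p' := GrpQuot.isPullback_glued (G := along G u) (hb G u h2) hcov
    have key : ∀ c : PullbackCone p p, ∃ r : c.pt ⟶ G.R, r ≫ G.t = c.fst ∧ r ≫ G.s = c.snd := by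
      intro c
      let Q₁ := pullback c.fst (q G u)
      let π : pullback (pullback.fst c.fst (q G u) ≫ c.snd) (q G u) ⟶ c.pt :=
        pullback.fst _ _ ≫ pullback.fst c.fst (q G u)
      let a := pullback.fst (pullback.fst c.fst (q G u) ≫ c.snd) (q G u) ≫ pullback.snd c.fst (q G u)
      let b := pullback.snd (pullback.fst c.fst (q G u) ≫ c.snd) (q G u)
      have ha : a ≫ q G u = π ≫ c.fst := by simp only [a, π, Category.assoc, pullback.condition]
      have hb' : b ≫ q G u = π ≫ c.snd := by simp only [b, π, ← pullback.condition, Category.assoc]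
      have hab : (a ≫ pullback.snd G.t u) ≫ p' = (b ≫ pullback.snd G.t u) ≫ p' := by
        calc (a ≫ pullback.snd G.t u) ≫ p' = a ≫ q G u ≫ p :=
            (Category.assoc _ _ _).trans (congrArg (a ≫ ·) hp.symm)
          _ = π ≫ c.fst ≫ p := (reass ha p).trans (Category.assoc _ _ _)
          _ = π ≫ c.snd ≫ p := congrArg (π ≫ ·) c.condition
          _ = b ≫ q G u ≫ p := ((reass hb' p).trans (Category.assoc _ _ _)).symm
          _ = (b ≫ pullback.snd G.t u) ≫ p' := (congrArg (b ≫ ·) hp).trans (Category.assoc _ _ _).symm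
      let ρ := hpb.lift (a ≫ pullback.snd G.t u) (b ≫ pullback.snd G.t u) hab
      have c₁ : inv' (a ≫ pullback.fst G.t u) ≫ G.s = (ρ ≫ toR G u) ≫ G.t := by
        rw [inv_s, toR_t, hpb.lift_fst]
        simp only [a, Category.assoc, pullback.condition]
      have c₂ : (ρ ≫ toR G u) ≫ G.s = (b ≫ pullback.fst G.t u) ≫ G.t := by
        rw [toR_s, hpb.lift_snd, Category.assoc, Category.assoc, pullback.condition]
      let ω := cmp G (cmp G (inv' (a ≫ pullback.fst G.t u)) (ρ ≫ toR G u) c₁) (b ≫ pullback.fst G.t u)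
        ((cmp_s _ _ _).trans c₂)
      have hωt : ω ≫ G.t = π ≫ c.fst :=
        (cmp_t _ _ _).trans ((cmp_t _ _ _).trans ((inv_t _).trans ((Category.assoc _ _ _).trans ha)))
      have hωs : ω ≫ G.s = π ≫ c.snd := (cmp_s _ _ _).trans ((Category.assoc _ _ _).trans hb')
      haveI : Flat π := inferInstanceAs (Flat (_ ≫ _))
      haveI : Surjective π := inferInstanceAs (Surjective (_ ≫ _))
      haveI : QuasiCompact π := inferInstanceAs (QuasiCompact (_ ≫ _))
      haveI : Epi π := Flat.epi_of_flat_of_surjective π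
      obtain ⟨r, hr⟩ := desc_exists π ω fun a' b' h => GrpQuot.hom_ext_of_mono_j
        (by simp only [Category.assoc, hωt]; rw [reassoc_of% h])
        (by simp only [Category.assoc, hωs]; rw [reassoc_of% h])
      exact ⟨r, by rw [← cancel_epi π, reassoc_of% hr, hωt], by rw [← cancel_epi π, reassoc_of% hr, hωs]⟩
    refine ⟨⟨⟨w⟩, ⟨PullbackCone.IsLimit.mk _ (fun c => (key c).choose) (fun c => (key c).choose_spec.1)
      (fun c => (key c).choose_spec.2) fun c m h1 h2' => GrpQuot.hom_ext_of_mono_j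
        (h1.trans (key c).choose_spec.1.symm) (h2'.trans (key c).choose_spec.2.symm)⟩⟩, fun hfl => ?_⟩
    haveI := hfl
    haveI : Flat p' := (GrpQuot.isFinLocFree_glued (G := along G u) (hb G u h2) hcov).2.1
    haveI : Flat (q G u ≫ p) := by rw [hp]; infer_instance
    refine Flat.of_stalkMap p fun x => ?_
    obtain ⟨x₁, rfl⟩ := (q G u).surjective x
    exact Descend.flat_stalkMap_of_comp (q G u) p x₁ (Flat.stalkMap _ _) (Flat.stalkMap _ _)
  · haveI := hlft
    have hlinkU : ∀ (r : G.R), p (G.t r) = p (G.s r) := fun r => by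
      rw [← Scheme.Hom.comp_apply, w, Scheme.Hom.comp_apply]
    refine ⟨fun r x y hx hy => ?_, hps.surj, hopen ho, ?_, fun x y h => ?_, ?_⟩
    · rw [Category.comp_id] at hx hy
      rw [hx, hy, Category.assoc, Category.assoc, w]
    · intro K _ _ x y exy
      let w₀ : Spec (CommRingCat.of K) ⟶ pullback p p := pullback.lift x y exy
      let L := pullback.lift G.t G.s w
      haveI : LocallyOfFiniteType (L ≫ pullback.snd p p) := by rw [pullback.lift_snd]; exact hlft
      haveI : LocallyOfFiniteType L := locallyOfFiniteType_of_comp L (pullback.snd p p)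
      haveI : LocallyOfFiniteType (pullback.snd L w₀) := MorphismProperty.pullback_snd _ _ inferInstance
      haveI : JacobsonSpace ↥(pullback L w₀) := LocallyOfFiniteType.jacobsonSpace (pullback.snd L w₀)
      obtain ⟨r₀, hr₀⟩ := hlift (w₀ (IsLocalRing.closedPoint K))
      obtain ⟨P, -, -⟩ := Scheme.Pullback.exists_preimage_pullback (f := L) (g := w₀) r₀ _ hr₀
      obtain ⟨P', -, hP'⟩ := nonempty_inter_closedPoints (Z := (Set.univ : Set ↥(pullback L w₀))) ⟨P, trivial⟩
        isOpen_univ.isLocallyClosed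
      let σ := pointOfClosedPoint (pullback.snd L w₀) P' hP'
      have hσ : σ ≫ pullback.snd L w₀ = 𝟙 _ := pointOfClosedPoint_comp _ _ _
      have hr : (σ ≫ pullback.fst L w₀) ≫ L = w₀ := by
        rw [Category.assoc, pullback.condition, ← Category.assoc, hσ, Category.id_comp]
      refine ⟨σ ≫ pullback.fst L w₀, ?_, ?_⟩
      · have := congrArg (· ≫ pullback.fst p p) hr
        simpa only [L, w₀, Category.assoc, pullback.lift_fst, Category.comp_id] using this
      · have := congrArg (· ≫ pullback.snd p p) hr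
        simpa only [L, w₀, Category.assoc, pullback.lift_snd, Category.comp_id] using this
    · obtain ⟨z, hz1, hz2⟩ := Scheme.Pullback.exists_preimage_pullback (f := p) (g := p) x y h
      obtain ⟨r, hr⟩ := hlift z
      refine ⟨r, ?_, ?_⟩
      · refine Eq.trans ?_ (hz1.trans (congr($(Category.comp_id (𝟙 G.U)) x)).symm)
        rw [← hr, ← Scheme.Hom.comp_apply, pullback.lift_fst]
      · refine Eq.trans ?_ (hz2.trans (congr($(Category.comp_id (𝟙 G.U)) y)).symm)
        rw [← hr, ← Scheme.Hom.comp_apply, pullback.lift_snd]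
    intro W O' Z g₀ hg₀ k q' sq ψ hψ
    rw [Category.comp_id] at hψ
    let O'' := pullback g₀ p'
    let a : O'' ⟶ O' := sq.lift (pullback.fst g₀ p') (pullback.snd g₀ p' ≫ u)
      (by rw [pullback.condition, Category.assoc, hup])
    have ha1 : a ≫ q' = pullback.fst g₀ p' := sq.lift_fst _ _ _
    have ha2 : a ≫ k = pullback.snd g₀ p' ≫ u := sq.lift_snd _ _ _
    have hinv : GrpQuot.Inv (along G u) (pullback.snd g₀ p' ≫ 𝟙 _) (a ≫ ψ) := by
      intro T r x y hx hy
      replace hx : x ≫ pullback.snd g₀ p' = r ≫ t' G u := (congrArg (x ≫ ·) (Category.comp_id _)).symm.trans hx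
      replace hy : y ≫ pullback.snd g₀ p' = r ≫ s' G u := (congrArg (y ≫ ·) (Category.comp_id _)).symm.trans hy
      let r' : T ⟶ R' G u := r
      rw [← Category.assoc, ← Category.assoc]
      refine hψ (r' ≫ toR G u) _ _ ?_ ?_
      · rw [toR_t r', Category.assoc, ha2, ← Category.assoc]
        exact congrArg (· ≫ u) hx
      · rw [toR_s r', Category.assoc, ha2, ← Category.assoc]
        exact congrArg (· ≫ u) hy
    obtain ⟨gW, hgW, hgW'⟩ := (isQuot_toGlued (G := along G u) hcov).desc g₀ (pullback.snd g₀ p')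
      (pullback.fst g₀ p') (IsPullback.of_hasPullback g₀ p') (a ≫ ψ) hinv
    refine ⟨gW, ?_, fun g' hg' => hgW' g' ?_⟩
    · haveI : Epi (pullback.fst k (q G u)) := Flat.epi_of_flat_of_surjective _
      show q' ≫ gW = ψ
      rw [← cancel_epi (pullback.fst k (q G u))]
      let v := pullback.snd k (q G u)
      have hb : (pullback.fst k (q G u) ≫ q') ≫ g₀ = (v ≫ pullback.snd G.t u) ≫ p' :=
        calc (pullback.fst k (q G u) ≫ q') ≫ g₀ = (pullback.fst k (q G u) ≫ k) ≫ p := by
              rw [Category.assoc, Category.assoc, sq.w]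
          _ = (v ≫ q G u) ≫ p := by rw [pullback.condition]
          _ = (v ≫ pullback.snd G.t u) ≫ p' :=
              (Category.assoc _ _ _).trans ((congrArg (v ≫ ·) hp).trans (Category.assoc _ _ _).symm)
      let bb := pullback.lift (pullback.fst k (q G u) ≫ q') (v ≫ pullback.snd G.t u) hb
      have key : (bb ≫ a) ≫ ψ = pullback.fst k (q G u) ≫ ψ := by
        refine hψ (v ≫ pullback.fst G.t u) _ _ ?_ ?_
        · rw [Category.assoc, ha2, pullback.lift_snd_assoc, Category.assoc, Category.assoc, pullback.condition]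
        · rw [Category.assoc]; exact pullback.condition
      rw [← key, Category.assoc, ← show pullback.fst g₀ p' ≫ gW = a ≫ ψ from hgW, pullback.lift_fst_assoc, Category.assoc]
    · show pullback.fst g₀ p' ≫ g' = a ≫ ψ
      rw [← ha1, Category.assoc, show q' ≫ g' = ψ from hg']
  · haveI := hS
    haveI := hU
    haveI : IsIntegralHom p' := hp'i
    haveI : LocallyOfFiniteType (p' ≫ g) := by
      rw [← hup, Category.assoc, hg]
      infer_instance
    exact lft_of_integral p' g fun V => app_injective_of_isQuot (isQuot_toGlued (G := along G u) hcov) V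

include h2 in
theorem main :
    ∃ (Y : Scheme.{u}) (p : G.U ⟶ Y) (w : G.t ≫ p = G.s ≫ p),
      Nonempty (IsColimit (Cofork.ofπ p w)) ∧ Surjective p ∧
      (IsOpenMap G.t.base → IsOpenMap p.base) ∧ (UniversallyClosed G.t → UniversallyClosed p) ∧
      Function.Surjective (pullback.lift G.t G.s w).base ∧
      (Mono G.j → IsPullback G.t G.s p p ∧ (Flat G.t → Flat p)) := by
  obtain ⟨Y, p, w, h1, h2, h3, h4, h5, h6, -, -⟩ := main' G u h2
  exact ⟨Y, p, w, h1, h2, h3, h4, h5, h6⟩

end Groth.Agent.GrpdQSec19
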