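import Groth.Agent.Lib.GrpdB.Calc

/-!
# Restriction of a groupoid scheme along a morphism to the objects
-/

set_option autoImplicit false
set_option linter.style.haveILetI false
set_option backward.isDefEq.respectTransparency.types false
universe u

open CategoryTheory CategoryTheory.Limits AlgebraicGeometry

noncomputable section

namespace Groth.Agent.GrpdQSec19

open Groth.Agent.GrpdB

variable {S : Scheme.{u}} (G : Grpd.GroupoidScheme S) {U' : Scheme.{u}} (u : U' ⟶ G.U)

/-- Arrows with target in `U'`. -/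
abbrev V : Scheme.{u} := pullback G.t u

/-- The source of an arrow with target in `U'`. -/
abbrev q : V G u ⟶ G.U := pullback.fst G.t u ≫ G.s

/-- Arrows with both ends in `U'`. -/
abbrev R' : Scheme.{u} := pullback (q G u) u

abbrev toR : R' G u ⟶ G.R := pullback.fst (q G u) u ≫ pullback.fst G.t u

abbrev s' : R' G u ⟶ U' := pullback.snd (q G u) u

abbrev t' : R' G u ⟶ U' := pullback.fst (q G u) u ≫ pullback.snd G.t u

variable {G u}

theorem toR_s {T : Scheme.{u}} (α : T ⟶ R' G u) : (α ≫ toR G u) ≫ G.s = (α ≫ s' G u) ≫ u := by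
  simp only [Category.assoc]
  exact congrArg (α ≫ ·) pullback.condition

theorem toR_t {T : Scheme.{u}} (α : T ⟶ R' G u) : (α ≫ toR G u) ≫ G.t = (α ≫ t' G u) ≫ u := by
  simp only [Category.assoc, pullback.condition]

theorem ext' {T : Scheme.{u}} {α β : T ⟶ R' G u} (h : α ≫ toR G u = β ≫ toR G u)
    (ht : α ≫ t' G u = β ≫ t' G u) (hs : α ≫ s' G u = β ≫ s' G u) : α = β := by
  refine pullback.hom_ext (pullback.hom_ext ?_ ?_) hs
  · simpa only [Category.assoc] using h
  · simpa only [Category.assoc] using ht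

/-- A point of `R'`. -/
def mk' {T : Scheme.{u}} (r : T ⟶ G.R) (x y : T ⟶ U') (hx : r ≫ G.t = x ≫ u) (hy : r ≫ G.s = y ≫ u) :
    T ⟶ R' G u :=
  pullback.lift (pullback.lift r x hx) y (by rw [pullback.lift_fst_assoc]; exact hy)

@[simp] theorem mk'_toR {T : Scheme.{u}} (r : T ⟶ G.R) (x y : T ⟶ U') (hx : r ≫ G.t = x ≫ u)
    (hy : r ≫ G.s = y ≫ u) : mk' r x y hx hy ≫ toR G u = r := by
  rw [mk', pullback.lift_fst_assoc, pullback.lift_fst]

@[simp] theorem mk'_t {T : Scheme.{u}} (r : T ⟶ G.R) (x y : T ⟶ U') (hx : r ≫ G.t = x ≫ u)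
    (hy : r ≫ G.s = y ≫ u) : mk' r x y hx hy ≫ t' G u = x := by
  rw [mk', pullback.lift_fst_assoc, pullback.lift_snd]

@[simp] theorem mk'_s {T : Scheme.{u}} (r : T ⟶ G.R) (x y : T ⟶ U') (hx : r ≫ G.t = x ≫ u)
    (hy : r ≫ G.s = y ≫ u) : mk' r x y hx hy ≫ s' G u = y := by
  rw [mk', pullback.lift_snd]

theorem cond {T : Scheme.{u}} {α β : T ⟶ R' G u} (h : α ≫ s' G u = β ≫ t' G u) :
    (α ≫ toR G u) ≫ G.s = (β ≫ toR G u) ≫ G.t := by rw [toR_s, toR_t, h]

/-- Composition in `R'`. -/
def c' : pullback (s' G u) (t' G u) ⟶ R' G u :=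
  mk' (cmp G (pullback.fst _ _ ≫ toR G u) (pullback.snd _ _ ≫ toR G u) (cond pullback.condition))
    (pullback.fst _ _ ≫ t' G u) (pullback.snd _ _ ≫ s' G u)
    (by rw [cmp_t, toR_t]) (by rw [cmp_s, toR_s])

theorem c'_toR {T : Scheme.{u}} (α β : T ⟶ R' G u) (h : α ≫ s' G u = β ≫ t' G u) :
    (pullback.lift α β h ≫ c') ≫ toR G u = cmp G (α ≫ toR G u) (β ≫ toR G u) (cond h) := by
  rw [Category.assoc, c', mk'_toR, comp_cmp]
  exact cmp_congr (pullback.lift_fst_assoc _ _ _ _) (pullback.lift_snd_assoc _ _ _ _) _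

theorem c'_t {T : Scheme.{u}} (α β : T ⟶ R' G u) (h : α ≫ s' G u = β ≫ t' G u) :
    (pullback.lift α β h ≫ c') ≫ t' G u = α ≫ t' G u := by
  rw [Category.assoc, c', mk'_t, pullback.lift_fst_assoc]

theorem c'_s {T : Scheme.{u}} (α β : T ⟶ R' G u) (h : α ≫ s' G u = β ≫ t' G u) :
    (pullback.lift α β h ≫ c') ≫ s' G u = β ≫ s' G u := by
  rw [Category.assoc, c', mk'_s, pullback.lift_snd_assoc]

variable (G u)

def e' : U' ⟶ R' G u :=
  mk' (u ≫ G.e) (𝟙 U') (𝟙 U') (by rw [Category.assoc, G.e_t, Category.comp_id, Category.id_comp])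
    (by rw [Category.assoc, G.e_s, Category.comp_id, Category.id_comp])

def i' : R' G u ⟶ R' G u :=
  mk' (toR G u ≫ G.i) (s' G u) (t' G u)
    (by rw [Category.assoc, G.i_t]; simpa using toR_s (𝟙 (R' G u)))
    (by rw [Category.assoc, G.i_s]; simpa using toR_t (𝟙 (R' G u)))

theorem i'_s : i' G u ≫ s' G u = t' G u := mk'_s _ _ _ _ _

theorem i'_t : i' G u ≫ t' G u = s' G u := mk'_t _ _ _ _ _

/-- The groupoid induced on `U'`. -/
def along : Grpd.GroupoidScheme S where
  U := U'
  R := R' G u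
  pU := u ≫ G.pU
  pR := toR G u ≫ G.pR
  s := s' G u
  t := t' G u
  e := e' G u
  i := i' G u
  c := c'
  s_over := by
    have h := toR_s (G := G) (u := u) (𝟙 _)
    rw [Category.id_comp, Category.id_comp] at h
    rw [← Category.assoc, ← h, Category.assoc, G.s_over]
  t_over := by
    have h := toR_t (G := G) (u := u) (𝟙 _)
    rw [Category.id_comp, Category.id_comp] at h
    rw [← Category.assoc, ← h, Category.assoc, G.t_over]
  comp_s α β h := c'_s α β h
  comp_t α β h := c'_t α β h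
  assoc α β γ h₁ h₂ := by
    refine ext' ?_ ?_ ?_
    · refine (c'_toR _ _ _).trans (Eq.trans ?_ (c'_toR _ _ _).symm)
      exact (cmp_congr (c'_toR α β h₁) rfl _).trans
        ((cmp_assoc _ _ _ (cond h₁) (cond h₂)).trans (cmp_congr rfl (c'_toR β γ h₂).symm _))
    · rw [c'_t, c'_t, c'_t]
    · rw [c'_s, c'_s, c'_s]
  e_s := mk'_s _ _ _ _ _
  e_t := mk'_t _ _ _ _ _
  comp_e α := by
    refine ext' ?_ ?_ ?_
    · rw [c'_toR]
      refine (cmp_congr rfl (?_ : _ = (α ≫ toR G u) ≫ G.s ≫ G.e) _).trans (G.comp_e _)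
      rw [Category.assoc α (s' G u ≫ e' G u), Category.assoc (s' G u), e', mk'_toR, ← Category.assoc (α ≫ toR G u),
        toR_s]
      simp only [Category.assoc]
    · rw [c'_t]
    · rw [c'_s, Category.assoc, Category.assoc, e', mk'_s, Category.comp_id]
  e_comp α := by
    refine ext' ?_ ?_ ?_
    · rw [c'_toR]
      refine (cmp_congr (?_ : _ = (α ≫ toR G u) ≫ G.t ≫ G.e) rfl _).trans (G.e_comp _)
      rw [Category.assoc α (t' G u ≫ e' G u), Category.assoc (t' G u), e', mk'_toR, ← Category.assoc (α ≫ toR G u),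
        toR_t]
      simp only [Category.assoc]
    · rw [c'_t, Category.assoc, Category.assoc, e', mk'_t, Category.comp_id]
    · rw [c'_s]
  i_s := i'_s G u
  i_t := i'_t G u
  comp_i α := by
    refine ext' ?_ ?_ ?_
    · rw [c'_toR]
      refine (cmp_congr rfl (?_ : _ = (α ≫ toR G u) ≫ G.i) _).trans ((G.comp_i _).trans ?_)
      · simp only [Category.assoc, i', mk'_toR]
      · rw [Category.assoc α (t' G u ≫ e' G u), Category.assoc (t' G u), e', mk'_toR,
          ← Category.assoc (α ≫ toR G u), toR_t]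
        simp only [Category.assoc]
    · rw [c'_t, Category.assoc, Category.assoc, e', mk'_t, Category.comp_id]
    · rw [c'_s, Category.assoc, i'_s, Category.assoc, Category.assoc, e', mk'_s, Category.comp_id]
  i_comp α := by
    refine ext' ?_ ?_ ?_
    · rw [c'_toR]
      refine (cmp_congr (?_ : _ = (α ≫ toR G u) ≫ G.i) rfl _).trans ((G.i_comp _).trans ?_)
      · simp only [Category.assoc, i', mk'_toR]
      · rw [Category.assoc α (s' G u ≫ e' G u), Category.assoc (s' G u), e', mk'_toR,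
          ← Category.assoc (α ≫ toR G u), toR_s]
        simp only [Category.assoc]
    · rw [c'_t, Category.assoc, i'_t, Category.assoc, Category.assoc, e', mk'_t, Category.comp_id]
    · rw [c'_s, Category.assoc, Category.assoc, e', mk'_s, Category.comp_id]

theorem mono_j_along [Mono u] [Mono G.j] : Mono (along G u).j := by
  refine ⟨fun {T} a b h => ?_⟩
  have ht : a ≫ t' G u = b ≫ t' G u := t_eq_of_comp_j (G := along G u) h
  have hs : a ≫ s' G u = b ≫ s' G u := s_eq_of_comp_j (G := along G u) h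
  refine ext' ?_ ht hs
  rw [← cancel_mono G.j]
  refine pullback.hom_ext ?_ ?_
  · have e := (toR_t a).trans ((congrArg (· ≫ u) ht).trans (toR_t b).symm)
    simpa only [Category.assoc, j_fst] using e
  · have e := (toR_s a).trans ((congrArg (· ≫ u) hs).trans (toR_s b).symm)
    simpa only [Category.assoc, j_snd] using e

end Groth.Agent.GrpdQSec19
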